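import Mathlib.CategoryTheory.Abelian.SerreClass.Localization
import Mathlib.Algebra.Homology.DerivedCategory.ExactFunctor

/-!
# Lifting complexes along the quotient by a Serre class
-/

universe w w' v v' u u'

open CategoryTheory CategoryTheory.Limits

namespace Groth.Agent.Lib.SerreLift.Basic

variable {A : Type u} [Category.{v} A] [Abelian A] (P : ObjectProperty A) [P.IsSerreClass]
  {Q : Type u'} [Category.{v'} Q] [Abelian Q] (L : A ⥤ Q) [L.IsLocalization P.isoModSerre]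
  [L.Additive]

include P

lemma exists_right {A₀ A₁ : A} (f : A₀ ⟶ A₁) {X₁ X₂ : Q} (e₁ : L.obj A₁ ≅ X₁) (d : X₁ ⟶ X₂)
    (h : L.map f ≫ e₁.hom ≫ d = 0) :
    ∃ (A₂ : A) (g : A₁ ⟶ A₂) (e₂ : L.obj A₂ ≅ X₂),
      f ≫ g = 0 ∧ L.map g ≫ e₂.hom = e₁.hom ≫ d := by
  have := Localization.essSurj L P.isoModSerre
  let e := L.objObjPreimageIso X₂
  have hL : P.isoModSerre.IsInvertedBy L := Localization.inverts L _
  obtain ⟨z, hz⟩ := Localization.exists_leftFraction L P.isoModSerre (e₁.hom ≫ d ≫ e.inv)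
  have := hL z.s z.hs
  have hf : L.map z.f = e₁.hom ≫ d ≫ e.inv ≫ L.map z.s := by
    rw [← z.map_comp_map_s L hL, ← hz]
    simp
  have h0 : L.map (f ≫ z.f) = 0 := by
    rw [L.map_comp, hf]
    have := h =≫ (e.inv ≫ L.map z.s)
    simpa using this
  obtain ⟨A₂, s', hs', hfs⟩ := (ObjectProperty.exists_comp_isoModSerre_eq_zero_iff P _).2
    ((ObjectProperty.SerreClassLocalization.map_eq_zero_iff L P _).1 h0)
  have := hL s' hs'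
  refine ⟨A₂, z.f ≫ s', (asIso (L.map z.s ≫ L.map s')).symm ≪≫ e,
    by simpa using hfs, ?_⟩
  simp [hf]

lemma exists_left {A₁ A₂ : A} (g : A₁ ⟶ A₂) {X₀ X₁ : Q} (e₁ : L.obj A₁ ≅ X₁) (d : X₀ ⟶ X₁)
    (h : d ≫ e₁.inv ≫ L.map g = 0) :
    ∃ (A₀ : A) (f : A₀ ⟶ A₁) (e₀ : L.obj A₀ ≅ X₀),
      f ≫ g = 0 ∧ L.map f ≫ e₁.hom = e₀.hom ≫ d := by
  have := Localization.essSurj L P.isoModSerre
  let e := L.objObjPreimageIso X₀
  have hL : P.isoModSerre.IsInvertedBy L := Localization.inverts L _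
  obtain ⟨z, hz⟩ := Localization.exists_rightFraction L P.isoModSerre (e.hom ≫ d ≫ e₁.inv)
  have := hL z.s z.hs
  have hf : L.map z.f = L.map z.s ≫ e.hom ≫ d ≫ e₁.inv := by
    rw [← z.map_s_comp_map L hL, ← hz]
  have h0 : L.map (z.f ≫ g) = 0 := by
    rw [L.map_comp, hf]
    simp [h]
  obtain ⟨A₀, s', hs', hfs⟩ := (ObjectProperty.exists_isoModSerre_comp_eq_zero_iff P _).2
    ((ObjectProperty.SerreClassLocalization.map_eq_zero_iff L P _).1 h0)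
  have := hL s' hs'
  refine ⟨A₀, s' ≫ z.f, asIso (L.map s' ≫ L.map z.s) ≪≫ e,
    by simpa using hfs, ?_⟩
  simp [hf]

omit P in
/-- A lifted arrow. -/
structure Arr (L : A ⥤ Q) {X₀ X₁ : Q} (d : X₀ ⟶ X₁) where
  src : A
  tgt : A
  f : src ⟶ tgt
  esrc : L.obj src ≅ X₀
  etgt : L.obj tgt ≅ X₁
  w : L.map f ≫ etgt.hom = esrc.hom ≫ d

lemma exists_chain_right (X : ℕ → Q) (d : ∀ k, X k ⟶ X (k + 1)) (hd : ∀ k, d k ≫ d (k + 1) = 0)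
    {A₀ : A} (e₀ : L.obj A₀ ≅ X 0) :
    ∃ (B : ℕ → A) (f : ∀ k, B k ⟶ B (k + 1)) (e : ∀ k, L.obj (B k) ≅ X k),
      (∀ k, f k ≫ f (k + 1) = 0) ∧ (∀ k, L.map (f k) ≫ (e (k + 1)).hom = (e k).hom ≫ d k) ∧
      ∃ φ : B 0 = A₀, e 0 = L.mapIso (eqToIso φ) ≪≫ e₀ := by
  have step : ∀ (k : ℕ) (a : Arr L (d k)), L.map a.f ≫ a.etgt.hom ≫ d (k + 1) = 0 := fun k a => by
    rw [← Category.assoc, a.w, Category.assoc, hd, comp_zero]
  obtain ⟨A₁, g₀, e₁, -, hg₀⟩ := exists_right P L (0 : A₀ ⟶ A₀) e₀ (d 0) (by simp)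
  choose A₂ g e₂ hg hge using fun (k : ℕ) (a : Arr L (d k)) =>
    exists_right P L a.f a.etgt (d (k + 1)) (step k a)
  let S : ∀ k, Arr L (d k) := fun k => Nat.rec ⟨A₀, A₁, g₀, e₀, e₁, hg₀⟩
    (fun k a => ⟨a.tgt, A₂ k a, g k a, a.etgt, e₂ k a, hge k a⟩) k
  exact ⟨fun k => (S k).src, fun k => (S k).f, fun k => (S k).esrc, fun k => hg k (S k),
    fun k => (S k).w, rfl, by ext; simp [S]⟩

lemma exists_chain_left (X : ℕ → Q) (d : ∀ k, X (k + 1) ⟶ X k) (hd : ∀ k, d (k + 1) ≫ d k = 0)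
    {A₁ : A} {X₁ : Q} (d₁ : X 0 ⟶ X₁) (hd₁ : d 0 ≫ d₁ = 0)
    {A₂ : A} (g : A₁ ⟶ A₂) (e₁ : L.obj A₁ ≅ X₁) {X₂ : Q} (e₂ : L.obj A₂ ≅ X₂) (d₂ : X₁ ⟶ X₂)
    (hd₂ : d₁ ≫ d₂ = 0) (hg : L.map g ≫ e₂.hom = e₁.hom ≫ d₂) :
    ∃ (B : ℕ → A) (f : ∀ k, B (k + 1) ⟶ B k) (f₁ : B 0 ⟶ A₁) (e : ∀ k, L.obj (B k) ≅ X k),
      (∀ k, f (k + 1) ≫ f k = 0) ∧ f 0 ≫ f₁ = 0 ∧ f₁ ≫ g = 0 ∧
      L.map f₁ ≫ e₁.hom = (e 0).hom ≫ d₁ ∧
      ∀ k, L.map (f k) ≫ (e k).hom = (e (k + 1)).hom ≫ d k := by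
  have aux : ∀ {A₁ A₂ : A} {Y₀ Y₁ Y₂ : Q} (g : A₁ ⟶ A₂) (e₁ : L.obj A₁ ≅ Y₁) (e₂ : L.obj A₂ ≅ Y₂)
      (d₁ : Y₀ ⟶ Y₁) (d₂ : Y₁ ⟶ Y₂), d₁ ≫ d₂ = 0 → L.map g ≫ e₂.hom = e₁.hom ≫ d₂ →
      d₁ ≫ e₁.inv ≫ L.map g = 0 := by
    intro A₁ A₂ Y₀ Y₁ Y₂ g e₁ e₂ d₁ d₂ h hg
    rw [← cancel_mono e₂.hom]
    simp [hg, h]
  obtain ⟨B₀, f₁, eB, h1, h2⟩ := exists_left P L g e₁ d₁ (aux g e₁ e₂ d₁ d₂ hd₂ hg)
  obtain ⟨B₁, f₀, eB₁, h3, h4⟩ := exists_left P L f₁ eB (d 0) (aux f₁ eB e₁ (d 0) d₁ hd₁ h2)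
  choose A₀ f e₀ hf hfe using fun (k : ℕ) (a : Arr L (d k)) =>
    exists_left P L a.f a.esrc (d (k + 1))
      (aux a.f a.esrc a.etgt (d (k + 1)) (d k) (hd k) a.w)
  let S : ∀ k, Arr L (d k) := fun k => Nat.rec ⟨B₁, B₀, f₀, eB₁, eB, h4⟩
    (fun k a => ⟨A₀ k a, a.src, f k a, e₀ k a, a.esrc, hfe k a⟩) k
  exact ⟨fun k => (S k).tgt, fun k => (S k).f, f₁, fun k => (S k).etgt, fun k => hf k (S k), h3,
    h1, h2, fun k => (S k).w⟩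

/-- Every complex in the quotient lifts. -/
theorem exists_lift (X : CochainComplex Q ℤ) :
    ∃ K : CochainComplex A ℤ,
      Nonempty ((L.mapHomologicalComplex (ComplexShape.up ℤ)).obj K ≅ X) := by
  have := Localization.essSurj L P.isoModSerre
  obtain ⟨B, f, e, hf, hfe, -⟩ := exists_chain_right P L (fun k : ℕ => X.X (Int.ofNat k))
    (fun k => X.d (Int.ofNat k) (Int.ofNat (k + 1))) (fun k => X.d_comp_d _ _ _)
    (L.objObjPreimageIso (X.X (Int.ofNat 0)))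
  obtain ⟨C, g, g₁, e', hg, hg0, hgf, hge, hge'⟩ := exists_chain_left P L
    (fun k : ℕ => X.X (Int.negSucc k)) (fun k => X.d (Int.negSucc (k + 1)) (Int.negSucc k))
    (fun k => X.d_comp_d _ _ _) (X.d (Int.negSucc 0) (Int.ofNat 0)) (X.d_comp_d _ _ _)
    (f 0) (e 0) (e 1) (X.d (Int.ofNat 0) (Int.ofNat 1)) (X.d_comp_d _ _ _) (hfe 0)
  let obj : ℤ → A := fun n => match n with
    | Int.ofNat k => B k
    | Int.negSucc k => C k
  let d : ∀ n : ℤ, obj n ⟶ obj (n + 1) := fun n => match n with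
    | Int.ofNat k => f k
    | Int.negSucc 0 => g₁
    | Int.negSucc (k + 1) => g k
  let iso : ∀ n : ℤ, L.obj (obj n) ≅ X.X n := fun n => match n with
    | Int.ofNat k => e k
    | Int.negSucc k => e' k
  have sq : ∀ n : ℤ, d n ≫ d (n + 1) = 0 := fun n => match n with
    | Int.ofNat k => hf k
    | Int.negSucc 0 => hgf
    | Int.negSucc 1 => hg0
    | Int.negSucc (k + 2) => hg k
  have hw : ∀ n : ℤ, L.map (d n) ≫ (iso (n + 1)).hom = (iso n).hom ≫ X.d n (n + 1) :=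
    fun n => match n with
    | Int.ofNat k => hfe k
    | Int.negSucc 0 => hge
    | Int.negSucc (k + 1) => hge' k
  refine ⟨CochainComplex.of obj d sq, ⟨HomologicalComplex.Hom.isoOfComponents iso ?_⟩⟩
  intro i j hij
  obtain rfl : i + 1 = j := hij
  simp only [Functor.mapHomologicalComplex_obj_d, CochainComplex.of_d]
  exact (hw i).symm

variable [HasDerivedCategory.{w} A] [HasDerivedCategory.{w'} Q]

theorem essSurj [PreservesFiniteLimits L] [PreservesFiniteColimits L] :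
    L.mapDerivedCategory.EssSurj where
  mem_essImage Y := by
    obtain ⟨K, ⟨e⟩⟩ := exists_lift P L (DerivedCategory.Q.objPreimage Y)
    exact ⟨DerivedCategory.Q.obj K, ⟨L.mapDerivedCategoryFactors.app K ≪≫
      DerivedCategory.Q.mapIso e ≪≫ DerivedCategory.Q.objObjPreimageIso Y⟩⟩

end Groth.Agent.Lib.SerreLift.Basic
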